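import Mathlib
import Cfsg.Prelude.Def_HallClasses
import Cfsg.Agent.ConjFunctor.Basic
import Cfsg.Agent.Solvable.Basic
import Cfsg.Agent.Perm.PrimeDegree
import Cfsg.Agent.Perm.BurnsidePrime

/-!
# Symmetric groups without Hall subgroups

* `not_isEPiGroup`: if `π` contains two primes and misses one, some symmetric group has no Hall
  `π`-subgroup.
-/

set_option autoImplicit false
set_option linter.style.haveILetI false

namespace CfsgLib.HallAllGroups

open Subgroup MulAction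
open Equiv (Perm)

variable {π : Set ℕ}

/-- A Hall subgroup contains a conjugate of each element of prime order in `π`. -/
theorem exists_conj_mem {G : Type*} [Group G] [Finite G] {H : Subgroup G} (hH : Cfsg.IsPiHall π H)
    {p : ℕ} (hp : p.Prime) (hpπ : p ∈ π) {x : G} (hx : orderOf x = p) :
    ∃ g : G, g * x * g⁻¹ ∈ H := by
  haveI := Fact.mk hp
  obtain ⟨T, -, hT⟩ := ConjFunctor.exists_isSylowIn_ge (p := p) (bot_le : ⊥ ≤ H) IsPGroup.of_bot
  have hTtop : ConjFunctor.IsSylowIn p T ⊤ := by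
    refine ⟨le_top, hT.2.1, ?_⟩
    rw [← relIndex_mul_relIndex T H ⊤ hT.1 le_top, relIndex_top_right, hp.dvd_mul]
    exact fun h => h.elim hT.2.2 (hH.2 p hp hpπ)
  obtain ⟨g, -, hg⟩ := hTtop.exists_cj_le le_top
    (IsPGroup.of_card (n := 1) (by rw [Nat.card_zpowers, hx, pow_one]) : IsPGroup p (zpowers x))
  exact ⟨g, hT.1 (hg (ConjFunctor.conj_mem_cj g (mem_zpowers x)))⟩

/-- `S_q` has an element of order `q`. -/
theorem exists_orderOf (q : ℕ) (hq : q.Prime) : ∃ c : Perm (Fin q), orderOf c = q := by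
  haveI := Fact.mk hq
  exact exists_prime_orderOf_dvd_card' q (by
    rw [Nat.card_perm, Nat.card_eq_fintype_card, Fintype.card_fin]
    exact Nat.dvd_factorial hq.pos le_rfl)

theorem not_hall_swap {q r : ℕ} (h2 : 2 ∈ π) (hq : q.Prime) (hqπ : q ∈ π) (hr : r.Prime)
    (hrπ : r ∉ π) (hrq : r < q) : ¬ Cfsg.IsEPiGroup π (Perm (Fin q)) := by
  classical
  rintro ⟨H, hH⟩
  obtain ⟨c₀, hc₀⟩ := exists_orderOf q hq
  obtain ⟨g, hg⟩ := exists_conj_mem hH hq hqπ hc₀
  have hq2 := hq.two_le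
  set a : Fin q := ⟨0, by omega⟩
  set b : Fin q := ⟨1, by omega⟩
  obtain ⟨g', hg'⟩ := exists_conj_mem hH Nat.prime_two h2
    (Equiv.Perm.IsSwap.orderOf (⟨a, b, by simp [a, b, Fin.ext_iff], rfl⟩ : (Equiv.swap a b).IsSwap))
  set c := g * c₀ * g⁻¹
  have hc : orderOf c = q := by
    show orderOf (g * c₀ * g⁻¹) = q
    rw [← MulAut.conj_apply, MulEquiv.orderOf_eq, hc₀]
  have hcard : (Fintype.card (Fin q)).Prime := by rwa [Fintype.card_fin]
  have hcyc : c.IsCycle :=
    Equiv.Perm.isCycle_of_prime_order'' hcard (hc.trans (Fintype.card_fin q).symm)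
  have hsupp : c.support = Finset.univ :=
    Finset.eq_univ_of_card _ (by rw [← hcyc.orderOf, hc, Fintype.card_fin])
  have hswap : (g' * Equiv.swap a b * g'⁻¹).IsSwap :=
    ⟨g' a, g' b, g'.injective.ne (by simp [a, b, Fin.ext_iff]),
      by rw [← Equiv.swap_apply_apply]⟩
  have htop : H = ⊤ := top_le_iff.1 ((Equiv.Perm.closure_prime_cycle_swap hcard hcyc hsupp hswap).ge.trans
    ((closure_le H).2 (Set.insert_subset_iff.2 ⟨hg, Set.singleton_subset_iff.2 hg'⟩)))
  refine hrπ (hH.1 r hr ?_)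
  rw [htop, card_top, Nat.card_perm, Nat.card_eq_fintype_card, Fintype.card_fin]
  exact Nat.dvd_factorial hr.pos hrq.le

theorem not_hall_odd {p q : ℕ} (h2 : 2 ∉ π) (hp : p.Prime) (hpπ : p ∈ π) (hq : q.Prime)
    (hqπ : q ∈ π) (hpq : p < q) : ¬ Cfsg.IsEPiGroup π (Perm (Fin q)) := by
  classical
  haveI := Fact.mk hp
  haveI := Fact.mk hq
  rintro ⟨H, hH⟩
  have hp2 : p ≠ 2 := fun e => h2 (e ▸ hpπ)
  have hq2 : q ≠ 2 := fun e => h2 (e ▸ hqπ)
  have hpq2 : p + 2 ≤ q := by
    rcases hp.eq_two_or_odd with h | h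
    · exact absurd h hp2
    rcases hq.eq_two_or_odd with h' | h'
    · exact absurd h' hq2
    omega
  have hcard : Fintype.card (Fin q) = q := Fintype.card_fin q
  -- `H` is transitive
  obtain ⟨c₀, hc₀⟩ := exists_orderOf q hq
  obtain ⟨g, hg⟩ := exists_conj_mem hH hq hqπ hc₀
  have hc : orderOf (g * c₀ * g⁻¹) = q := by
    rw [← MulAut.conj_apply, MulEquiv.orderOf_eq, hc₀]
  obtain ⟨e, he⟩ := Perm.PrimeDegree.exists_coord hcard (g := g * c₀ * g⁻¹)
    (fun h => by rw [h, orderOf_one] at hc; exact hq.one_lt.ne hc)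
    (by conv_rhs => rw [← pow_orderOf_eq_one (g * c₀ * g⁻¹), hc])
  haveI htr : IsPretransitive H (Fin q) := by
    have hpow : ∀ k : ℕ, ((g * c₀ * g⁻¹) ^ k) (e 0) = e (k : ZMod q) := by
      intro k
      induction k with
      | zero => simp
      | succ k ih => rw [pow_succ', Equiv.Perm.mul_apply, ih, he, Nat.cast_succ]
    have hbase : ∀ x : Fin q, ∃ t : H, t • e 0 = x := fun x =>
      ⟨⟨(g * c₀ * g⁻¹) ^ (e.symm x).val, pow_mem hg _⟩, by
        show ((g * c₀ * g⁻¹) ^ (e.symm x).val) (e 0) = x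
        rw [hpow, ZMod.natCast_zmod_val, Equiv.apply_symm_apply]⟩
    refine ⟨fun x y => ?_⟩
    obtain ⟨s, rfl⟩ := hbase x
    obtain ⟨t, rfl⟩ := hbase y
    exact ⟨t * s⁻¹, by rw [mul_smul, inv_smul_smul]⟩
  -- a solvable group
  rcases Perm.PrimeDegree.burnside hcard H with hsol | hmul
  swap
  · obtain ⟨a, b, hab⟩ : ∃ a b : Fin q, a ≠ b :=
      ⟨⟨0, by omega⟩, ⟨1, by omega⟩, by simp [Fin.ext_iff]⟩
    obtain ⟨t, hta, htb⟩ := (MulAction.is_two_pretransitive_iff.1 hmul) hab hab.symm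
    refine h2 (hH.1 2 Nat.prime_two (dvd_trans ?_ (_root_.orderOf_dvd_natCard t)))
    by_contra hodd
    have hpow : ∀ k : ℕ, (t ^ (2 * k)) • a = a := by
      intro k
      induction k with
      | zero => simp
      | succ k ih =>
        rw [show 2 * (k + 1) = 2 * k + 1 + 1 by ring, pow_succ, mul_smul, hta, pow_succ, mul_smul,
          htb, ih]
    obtain ⟨k, hk⟩ : ∃ k, orderOf t = 2 * k + 1 := ⟨orderOf t / 2, by omega⟩
    have h1 : (t ^ orderOf t) • a = a := by rw [pow_orderOf_eq_one, one_smul]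
    rw [hk, pow_succ', mul_smul, hpow, hta] at h1
    exact hab h1.symm
  haveI : Nontrivial H :=
    ⟨⟨⟨_, hg⟩, 1, fun h => by
      rw [Subtype.ext_iff] at h
      simp only [OneMemClass.coe_one] at h
      rw [h, orderOf_one] at hc
      exact hq.one_lt.ne hc⟩⟩
  obtain ⟨N, hN, hN1, hmin⟩ := Solvable.exists_minimal_normal (G := H)
  haveI := hN
  obtain ⟨s, hs, hNs⟩ := Solvable.exists_isPGroup_of_minimal_normal hN1 hmin
  haveI := Fact.mk hs
  -- `N` is regular of order `q`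
  haveI : IsPreprimitive H (Fin q) :=
    IsPreprimitive.of_prime_card (by rwa [Nat.card_eq_fintype_card, hcard])
  haveI hNtr : IsPretransitive N (Fin q) :=
    IsQuasiPreprimitive.isPretransitive_of_normal (G := H) (fun hfix => hN1 (eq_bot_iff.2
      fun n hn => mem_bot.2 (FaithfulSMul.eq_of_smul_eq_smul (α := Fin q) fun x => by
        rw [one_smul]
        exact (Set.eq_univ_iff_forall.1 hfix x) ⟨n, hn⟩)))
  have hqN : q ∣ Nat.card N := by
    have := index_stabilizer_of_transitive N (x := e 0)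
    rw [Nat.card_eq_fintype_card, hcard] at this
    exact this.symm.dvd.trans (index_dvd_card _)
  have hsq : s = q := by
    obtain ⟨k, hk⟩ := IsPGroup.iff_card.1 hNs
    exact ((Nat.prime_dvd_prime_iff_eq hq hs).1 (hq.dvd_of_dvd_pow (hk ▸ hqN))).symm
  subst hsq
  have hNcard : Nat.card N = s := by
    obtain ⟨k, hk⟩ := IsPGroup.iff_card.1 hNs
    have h1 : s ^ k ∣ s.factorial := by
      rw [← hk]
      refine (card_subgroup_dvd_card N).trans ((card_subgroup_dvd_card H).trans ?_)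
      rw [Nat.card_perm, Nat.card_eq_fintype_card, Fintype.card_fin]
    rcases Nat.lt_or_ge k 2 with hk2 | hk2
    · interval_cases k
      · rw [hk, pow_zero] at hqN; exact absurd hqN hq.not_dvd_one
      · rw [hk, pow_one]
    · exfalso
      have h3 : s ^ 2 ∣ s * (s - 1).factorial := by
        rw [Nat.mul_factorial_pred hq.ne_zero]
        exact (pow_dvd_pow s hk2).trans h1
      rw [sq, Nat.mul_dvd_mul_iff_left hq.pos, hq.dvd_factorial] at h3
      omega
  have hreg : ∀ n : N, ∀ x : Fin s, n • x = x → n = 1 := by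
    intro n x hn
    have h1 : (stabilizer N x).index = Nat.card N := by
      rw [index_stabilizer_of_transitive, Nat.card_eq_fintype_card, hcard, hNcard]
    have h2 := card_mul_index (stabilizer N x)
    rw [h1] at h2
    have h3 : stabilizer N x = ⊥ := card_eq_one.1 (by
      have := (Nat.card_pos : 0 < Nat.card N)
      nlinarith)
    exact mem_bot.1 (h3 ▸ (hn : n ∈ stabilizer N x))
  -- a `p`-element with two fixed points
  obtain ⟨a, b, hab⟩ : ∃ a b : Fin s, a ≠ b :=
    ⟨⟨0, by omega⟩, ⟨1, by omega⟩, by simp [Fin.ext_iff]⟩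
  obtain ⟨σ₁, hσ₁⟩ := exists_prime_orderOf_dvd_card' (G := Perm {x : Fin s // x ≠ a ∧ x ≠ b}) p (by
    rw [Nat.card_perm, Nat.card_eq_fintype_card]
    refine Nat.dvd_factorial hp.pos ?_
    rw [Fintype.card_subtype]
    have : (Finset.univ.filter fun x : Fin s => x ≠ a ∧ x ≠ b) =
        Finset.univ \ {a, b} := by ext x; simp
    rw [this, Finset.card_sdiff_of_subset (Finset.subset_univ _), Finset.card_univ,
      Fintype.card_fin, Finset.card_pair hab]
    omega)
  set σ₀ : Perm (Fin s) := Equiv.Perm.ofSubtype σ₁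
  have hσ₀ : orderOf σ₀ = p := by
    rw [orderOf_injective _ Equiv.Perm.ofSubtype_injective, hσ₁]
  obtain ⟨h, hh⟩ := exists_conj_mem hH hp hpπ hσ₀
  set σ : H := ⟨h * σ₀ * h⁻¹, hh⟩
  have hfix : ∀ x : Fin s, ¬ (x ≠ a ∧ x ≠ b) → σ • (h x) = h x := by
    intro x hx
    show (h * σ₀ * h⁻¹) (h x) = h x
    rw [Equiv.Perm.mul_apply, Equiv.Perm.mul_apply, Equiv.Perm.coe_inv, Equiv.symm_apply_apply,
      Equiv.Perm.ofSubtype_apply_of_not_mem σ₁ hx]
  obtain ⟨n, hn⟩ := exists_smul_eq N (h a) (h b)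
  have hn1 : n ≠ 1 := fun e => hab (h.injective (by rw [← hn, e, one_smul]))
  have hfa := hfix a (by simp)
  have hfb := hfix b (by simp)
  have hcomm : σ * (n : H) * σ⁻¹ = n := by
    have h1 : (⟨σ * (n : H) * σ⁻¹, hN.conj_mem _ n.2 σ⟩ : N)⁻¹ * n = 1 := by
      refine hreg _ (h a) ?_
      have h2 : (⟨σ * (n : H) * σ⁻¹, hN.conj_mem _ n.2 σ⟩ : N) • h a = h b := by
        show (σ * (n : H) * σ⁻¹) • h a = h b
        rw [mul_smul, mul_smul, inv_smul_eq_iff.2 hfa.symm]
        show σ • (n • h a) = h b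
        rw [hn, hfb]
      rw [mul_smul, hn, inv_smul_eq_iff, h2]
    exact congrArg Subtype.val (inv_mul_eq_one.1 h1)
  have hgen : zpowers n = ⊤ := zpowers_eq_top_of_prime_card hNcard hn1
  have hσ1 : σ = 1 := by
    refine FaithfulSMul.eq_of_smul_eq_smul (α := Fin s) fun x => ?_
    rw [one_smul]
    obtain ⟨m, rfl⟩ := exists_smul_eq N (h a) x
    obtain ⟨k, rfl⟩ := mem_zpowers_iff.1 (hgen ▸ mem_top m)
    have hc' : Commute σ ((n : H) ^ k) :=
      (show Commute σ (n : H) from mul_inv_eq_iff_eq_mul.1 hcomm).zpow_right k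
    show σ • (((n ^ k : N) : H) • h a) = ((n ^ k : N) : H) • h a
    rw [coe_zpow, ← mul_smul, hc'.eq, mul_smul, hfa]
  have h4 : orderOf (h * σ₀ * h⁻¹) = p := by
    rw [← MulAut.conj_apply, MulEquiv.orderOf_eq, hσ₀]
  rw [show h * σ₀ * h⁻¹ = ((σ : H) : Perm (Fin s)) from rfl, hσ1, OneMemClass.coe_one,
    orderOf_one] at h4
  exact hp.one_lt.ne h4

theorem not_hall_next {r : ℕ} (hr : r.Prime) (hr5 : 5 ≤ r) (hrπ : r ∉ π)
    (hlt : ∀ s : ℕ, s.Prime → s < r → s ∈ π) : ¬ Cfsg.IsEPiGroup π (Perm (Fin (r + 1))) := by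
  classical
  rintro ⟨H, hH⟩
  have hcard : Nat.card (Perm (Fin (r + 1))) = (r + 1).factorial := by
    rw [Nat.card_perm, Nat.card_eq_fintype_card, Fintype.card_fin]
  have hidx : H.index ∣ (r + 1).factorial := hcard ▸ index_dvd_card H
  have hrdvd : r ∣ H.index := by
    have h1 : r ∣ Nat.card H * H.index := by
      rw [card_mul_index, hcard]; exact Nat.dvd_factorial hr.pos (by omega)
    exact (hr.dvd_mul.1 h1).resolve_left fun h => hrπ (hH.1 r hr h)
  have honly : ∀ {d : ℕ}, d.Prime → d ∣ H.index → d = r := by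
    intro d hd hdi
    have hle : d ≤ r + 1 := hd.dvd_factorial.1 (hdi.trans hidx)
    rcases lt_trichotomy d r with h | h | h
    · exact absurd hdi (hH.2 d hd (hlt d hd h))
    · exact h
    · exfalso
      have hd' : d = r + 1 := by omega
      rcases hd.eq_two_or_odd with h' | h'
      · omega
      · rcases hr.eq_two_or_odd with h'' | h'' <;> omega
  have hpow := Nat.eq_prime_pow_of_unique_prime_dvd index_ne_zero_of_finite honly
  have hidx' : H.index = r := by
    generalize H.index.primeFactorsList.length = k at hpow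
    rcases Nat.lt_or_ge k 2 with hk | hk
    · interval_cases k
      · rw [hpow, pow_zero] at hrdvd; exact absurd hrdvd hr.not_dvd_one
      · rw [hpow, pow_one]
    · exfalso
      have h3 : r ^ 2 ∣ r * ((r + 1) * (r - 1).factorial) := by
        rw [mul_left_comm, Nat.mul_factorial_pred hr.ne_zero, ← Nat.factorial_succ]
        exact (pow_dvd_pow r hk).trans (hpow ▸ hidx)
      rw [sq, Nat.mul_dvd_mul_iff_left hr.pos, hr.dvd_mul, hr.dvd_factorial] at h3
      rcases h3 with h3 | h3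
      · rw [Nat.dvd_add_right dvd_rfl] at h3; exact hr.not_dvd_one h3
      · omega
  have hne : Nontrivial H.normalCore := by
    rw [nontrivial_iff_ne_bot]
    intro hbot
    have hinj : Function.Injective (MulAction.toPermHom (Perm (Fin (r + 1))) (Perm (Fin (r + 1)) ⧸ H)) := by
      rw [← MonoidHom.ker_eq_bot_iff, ← Subgroup.normalCore_eq_ker, hbot]
    have h1 := Nat.card_le_card_of_injective _ hinj
    rw [hcard, Nat.card_perm, ← index_eq_card, hidx', Nat.factorial_succ] at h1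
    nlinarith [Nat.factorial_pos r]
  have hle := (Equiv.Perm.alternatingGroup_le_of_normal
    (α := Fin (r + 1)) (by rw [Nat.card_eq_fintype_card, Fintype.card_fin]; omega) hne).trans
    H.normalCore_le
  have h2 : H.index ≤ 2 := by
    refine Nat.le_of_dvd two_pos ((index_dvd_of_le hle).trans ?_)
    haveI : Nontrivial (Fin (r + 1)) := Fin.nontrivial_iff_two_le.2 (by omega)
    rw [alternatingGroup.index_eq_two]
  omega

/-- Some symmetric group has no Hall `π`-subgroup. -/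
theorem not_isEPiGroup {p q : ℕ} (hp : p.Prime) (hq : q.Prime) (hpπ : p ∈ π) (hqπ : q ∈ π)
    (hpq : p ≠ q) {r₀ : ℕ} (hr₀ : r₀.Prime) (hr₀π : r₀ ∉ π) :
    ∃ n : ℕ, ¬ Cfsg.IsEPiGroup π (Perm (Fin n)) := by
  classical
  by_cases h2 : 2 ∈ π
  swap
  · rcases lt_or_gt_of_ne hpq with h | h
    · exact ⟨q, not_hall_odd h2 hp hpπ hq hqπ h⟩
    · exact ⟨p, not_hall_odd h2 hq hqπ hp hpπ h⟩
  by_cases hbig : ∃ s r : ℕ, s.Prime ∧ s ∈ π ∧ r.Prime ∧ r ∉ π ∧ r < s
  · obtain ⟨s, r, hs, hsπ, hr, hrπ, hlt⟩ := hbig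
    exact ⟨s, not_hall_swap h2 hs hsπ hr hrπ hlt⟩
  push Not at hbig
  have hex : ∃ r, r.Prime ∧ r ∉ π := ⟨r₀, hr₀, hr₀π⟩
  obtain ⟨hr, hrπ⟩ := Nat.find_spec hex
  refine ⟨Nat.find hex + 1, not_hall_next hr ?_ hrπ fun s hs hlt => ?_⟩
  · have hne : ∀ {s : ℕ}, s.Prime → s ∈ π → s < Nat.find hex := fun hs hsπ =>
      lt_of_le_of_ne (hbig _ _ hs hsπ hr hrπ) fun e => hrπ (e ▸ hsπ)
    have := hne hp hpπ
    have := hne hq hqπ
    have := hp.two_le
    have := hq.two_le
    rcases hr.eq_two_or_odd with h | h <;> omega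
  · by_contra hsπ
    exact absurd (Nat.find_le ⟨hs, hsπ⟩) (not_le.2 hlt)

end CfsgLib.HallAllGroups
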